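import Cfsg.Agent.SL2Tor.Core

/-!
A group with two additive families satisfying the rank-one Steinberg relations over a finite
field has at most as many elements as `SL₂`.
-/

set_option autoImplicit false

namespace Cfsg.Agent.SL2Pres

variable {K : Type*} [Field K] {P : Type*} [Group P]

/-- the element `x(t) y(-1/t) x(t)` -/
def W (X Y : K → P) (t : K) : P := X t * Y (-t⁻¹) * X t

/-- the relations -/
structure Rels (X Y : K → P) : Prop where
  xadd : ∀ t u, X t * X u = X (t + u)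
  yadd : ∀ t u, Y t * Y u = Y (t + u)
  conj : ∀ t u, t ≠ 0 → W X Y t * X u * (W X Y t)⁻¹ = Y (-(t⁻¹ ^ 2 * u))
  gen : Subgroup.closure (Set.range X ∪ Set.range Y) = ⊤

variable {X Y : K → P} (h : Rels X Y)
include h

theorem X_zero : X 0 = 1 := by simpa using h.xadd 0 0

theorem Y_zero : Y 0 = 1 := by simpa using h.yadd 0 0

theorem X_inv (a : K) : (X a)⁻¹ = X (-a) :=
  inv_eq_of_mul_eq_one_right (by rw [h.xadd, add_neg_cancel, X_zero h])

theorem Y_inv (a : K) : (Y a)⁻¹ = Y (-a) :=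
  inv_eq_of_mul_eq_one_right (by rw [h.yadd, add_neg_cancel, Y_zero h])

theorem W_inv (t : K) : (W X Y t)⁻¹ = W X Y (-t) := by
  simp [W, mul_inv_rev, X_inv h, Y_inv h, mul_assoc, inv_neg]

theorem W_X {t : K} (ht : t ≠ 0) (u : K) :
    W X Y t * X u = Y (-(t⁻¹ ^ 2 * u)) * W X Y t :=
  mul_inv_eq_iff_eq_mul.1 (h.conj t u ht)

theorem W_Y {t : K} (ht : t ≠ 0) (v : K) : W X Y t * Y v = X (-(t ^ 2 * v)) * W X Y t := by
  have h1 := W_X h (neg_ne_zero.2 ht) (-(t ^ 2 * v))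
  rw [← W_inv h] at h1
  have e : -((-t)⁻¹ ^ 2 * -(t ^ 2 * v)) = v := by field_simp
  rw [e, inv_mul_eq_iff_eq_mul] at h1
  conv_rhs => rw [h1]
  simp [mul_assoc]

theorem X_W {t : K} (ht : t ≠ 0) (u : K) : X u * W X Y t = W X Y t * Y (-(t⁻¹ ^ 2 * u)) := by
  rw [W_Y h ht]
  congr 2
  field_simp

theorem Y_W {t : K} (ht : t ≠ 0) (v : K) : Y v * W X Y t = W X Y t * X (-(t ^ 2 * v)) := by
  rw [W_X h ht]
  congr 2
  field_simp

theorem W_eq {t : K} (ht : t ≠ 0) : W X Y t = Y (-t⁻¹) * X t * Y (-t⁻¹) := by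
  have h1 := W_X h ht t
  rw [show -(t⁻¹ ^ 2 * t) = -t⁻¹ by field_simp] at h1
  nth_rw 2 [W] at h1
  simp only [← mul_assoc] at h1
  exact mul_right_cancel h1

theorem Y_eq {v : K} (hv : v ≠ 0) : Y v = X v⁻¹ * W X Y (-v⁻¹) * X v⁻¹ := by
  have e : -(-v⁻¹)⁻¹ = v := by rw [inv_neg, inv_inv, neg_neg]
  rw [W, e, show X v⁻¹ * (X (-v⁻¹) * Y v * X (-v⁻¹)) * X v⁻¹ =
    (X v⁻¹ * X (-v⁻¹)) * Y v * (X (-v⁻¹) * X v⁻¹) by simp only [mul_assoc],
    h.xadd, h.xadd, add_neg_cancel, neg_add_cancel, X_zero h, one_mul, mul_one]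

theorem W_W {t u : K} (ht : t ≠ 0) (hu : u ≠ 0) :
    W X Y t * W X Y u = W X Y (t ^ 2 / u) * W X Y t := by
  have hb : t ^ 2 / u ≠ 0 := div_ne_zero (pow_ne_zero _ ht) hu
  have e1 : -(t⁻¹ ^ 2 * u) = -(t ^ 2 / u)⁻¹ := by field_simp
  have e2 : -(t ^ 2 * -u⁻¹) = t ^ 2 / u := by field_simp
  conv_lhs => arg 2; rw [W]
  rw [← mul_assoc, ← mul_assoc, W_X h ht, mul_assoc (Y _) (W X Y t), W_Y h ht, e1, e2,
    mul_assoc (Y _), mul_assoc (X _) (W X Y t), W_X h ht, e1, W_eq h hb]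
  simp only [mul_assoc]

/-- the addition identity -/
theorem W_W_W {t s : K} (ht : t ≠ 0) (hs : s ≠ 0) (hu : t + s ≠ 0) :
    W X Y t * W X Y (-(t + s)) * W X Y s = W X Y (t * s / (t + s)) := by
  have h1 : W X Y t * W X Y (-(t + s)) * W X Y s =
      X (-(t ^ 2 * (t + s)⁻¹)) * W X Y t * X (-(t + s)) *
        W X Y s * X (-(s ^ 2 * (t + s)⁻¹)) := by
    rw [W_eq h (neg_ne_zero.2 hu), inv_neg, neg_neg, ← mul_assoc, ← mul_assoc, W_Y h ht,
      mul_assoc _ (Y _) (W X Y s), Y_W h hs]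
    simp only [mul_assoc]
  have e1 : -(t ^ 2 * (t + s)⁻¹) + t = t * s / (t + s) := by field_simp; ring
  have e2 : s + -(s ^ 2 * (t + s)⁻¹) = t * s / (t + s) := by field_simp; ring
  have e3 : -t⁻¹ + -s⁻¹ = -(t * s / (t + s))⁻¹ := by field_simp; ring
  have h2 : X (-(t ^ 2 * (t + s)⁻¹)) * W X Y t * X (-(t + s)) *
        W X Y s * X (-(s ^ 2 * (t + s)⁻¹)) =
      (X (-(t ^ 2 * (t + s)⁻¹)) * X t) * Y (-t⁻¹) * (X t * X (-(t + s)) * X s) *
        Y (-s⁻¹) * (X s * X (-(s ^ 2 * (t + s)⁻¹))) := by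
    simp only [W, mul_assoc]
  rw [h1, h2, h.xadd, h.xadd, h.xadd, h.xadd, show t + -(t + s) + s = 0 by ring, X_zero h, mul_one,
    mul_assoc (X _) (Y _) (Y _), h.yadd, e1, e2, e3, W]

theorem W_sq_mem_center {t : K} (ht : t ≠ 0) : W X Y t * W X Y t ∈ Subgroup.center P := by
  rw [Subgroup.mem_center_iff]
  intro g
  have hg : g ∈ Subgroup.centralizer ({W X Y t * W X Y t} : Set P) := by
    have hle : Subgroup.closure (Set.range X ∪ Set.range Y) ≤
        Subgroup.centralizer ({W X Y t * W X Y t} : Set P) := by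
      rw [Subgroup.closure_le]
      rintro _ (⟨a, rfl⟩ | ⟨a, rfl⟩) <;>
        rw [SetLike.mem_coe, Subgroup.mem_centralizer_singleton_iff, eq_comm]
      · rw [mul_assoc, W_X h ht, ← mul_assoc, W_Y h ht,
          show -(t ^ 2 * -(t⁻¹ ^ 2 * a)) = a by field_simp, mul_assoc]
      · rw [mul_assoc, W_Y h ht, ← mul_assoc, W_X h ht,
          show -(t⁻¹ ^ 2 * -(t ^ 2 * a)) = a by field_simp, mul_assoc]
    rw [h.gen] at hle
    exact hle (Subgroup.mem_top g)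
  exact Subgroup.mem_centralizer_singleton_iff.1 hg

omit h

section Cyclic

variable [Finite K] (X Y) (γ : Kˣ)

/-- `w` at a power of the generator -/
def Wk (k : ℤ) : P := W X Y ((γ ^ k : Kˣ) : K)

/-- the image of the generator in the diagonal subgroup -/
def eta : P := Wk X Y γ 1 * (Wk X Y γ 0)⁻¹

/-- the two central squares compared -/
def delta : P := Wk X Y γ 1 * Wk X Y γ 1 * (Wk X Y γ 0 * Wk X Y γ 0)⁻¹

/-- the normal forms -/
def Normal (p : P) : Prop :=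
  (∃ a, ∃ g ∈ Subgroup.zpowers (eta X Y γ), p = X a * g) ∨
    ∃ a, ∃ g ∈ Subgroup.zpowers (eta X Y γ), ∃ b, p = X a * g * Wk X Y γ 0 * X b

variable {X Y}
include h

theorem Wk_Wk (a b : ℤ) :
    Wk X Y γ a * Wk X Y γ b = Wk X Y γ (2 * a - b) * Wk X Y γ a := by
  unfold Wk
  rw [W_W h (Units.ne_zero _) (Units.ne_zero _)]
  congr 2
  rw [zpow_sub, mul_comm (2 : ℤ) a, zpow_mul, zpow_two, ← sq, Units.val_mul,
    Units.val_inv_eq_inv_val, Units.val_pow_eq_pow_val, div_eq_mul_inv]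

theorem Wk_succ_mul (k : ℤ) :
    Wk X Y γ (k + 1) * Wk X Y γ k = Wk X Y γ 1 * Wk X Y γ 0 := by
  induction k using Int.induction_on with
  | zero => simp
  | succ k ih =>
    rw [← ih, Wk_Wk h γ ((k : ℤ) + 1) k]
    congr 2; ring
  | pred k ih =>
    rw [← ih, Wk_Wk h γ (-(k : ℤ) - 1 + 1) (-(k : ℤ) - 1)]
    congr 2 <;> ring

theorem Wk_sq_center (k : ℤ) : Wk X Y γ k * Wk X Y γ k ∈ Subgroup.center P :=
  W_sq_mem_center h (Units.ne_zero _)

theorem delta_center : delta X Y γ ∈ Subgroup.center P :=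
  mul_mem (Wk_sq_center h γ 1) (inv_mem (Wk_sq_center h γ 0))

theorem Wk_neg_one :
    Wk X Y γ (-1) = (Wk X Y γ 0)⁻¹ * Wk X Y γ 1 * Wk X Y γ 0 := by
  rw [mul_assoc, ← Wk_succ_mul h γ (-1), show (-1 : ℤ) + 1 = 0 by norm_num, inv_mul_cancel_left]

theorem w_eta :
    Wk X Y γ 0 * eta X Y γ = (eta X Y γ)⁻¹ * delta X Y γ * Wk X Y γ 0 := by
  have h1 : Wk X Y γ 0 * eta X Y γ = Wk X Y γ (-1) := by
    rw [eta, ← mul_assoc, Wk_Wk h γ 0 1, mul_inv_cancel_right]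
    rfl
  rw [h1, Wk_neg_one h γ, eta, delta, mul_inv_rev, mul_inv_rev, inv_inv]
  have hz := Subgroup.mem_center_iff.1 (Wk_sq_center h γ 0) (Wk X Y γ 1)
  have hz' : Wk X Y γ 1 * ((Wk X Y γ 0)⁻¹ * (Wk X Y γ 0)⁻¹) =
      ((Wk X Y γ 0)⁻¹ * (Wk X Y γ 0)⁻¹) * Wk X Y γ 1 := by
    rw [← mul_inv_rev]
    exact (Commute.inv_right hz).eq
  calc (Wk X Y γ 0)⁻¹ * Wk X Y γ 1 * Wk X Y γ 0
      = Wk X Y γ 0 * ((Wk X Y γ 0)⁻¹ * (Wk X Y γ 0)⁻¹ * Wk X Y γ 1) * Wk X Y γ 0 := by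
        simp [mul_assoc]
    _ = _ := by rw [← hz']; simp [mul_assoc]

theorem w_eta_zpow (k : ℤ) :
    Wk X Y γ 0 * eta X Y γ ^ k = eta X Y γ ^ (-k) * delta X Y γ ^ k * Wk X Y γ 0 := by
  have hc : Commute (eta X Y γ)⁻¹ (delta X Y γ) :=
    Subgroup.mem_center_iff.1 (delta_center h γ) _
  have h1 : SemiconjBy (Wk X Y γ 0) (eta X Y γ) ((eta X Y γ)⁻¹ * delta X Y γ) := w_eta h γ
  rw [(h1.zpow_right k).eq, hc.mul_zpow, inv_zpow, zpow_neg]

theorem Wk_eq (k : ℤ) :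
    Wk X Y γ k = eta X Y γ ^ k * delta X Y γ ^ (-(k / 2)) * Wk X Y γ 0 := by
  have hstep : ∀ k : ℤ, eta X Y γ ^ (k + 1) * delta X Y γ ^ (-((k + 1) / 2)) * Wk X Y γ 0 =
      Wk X Y γ 1 * Wk X Y γ 0 *
        (eta X Y γ ^ k * delta X Y γ ^ (-(k / 2)) * Wk X Y γ 0)⁻¹ := by
    intro k
    have hd : ∀ (m : ℤ) (g : P), g * delta X Y γ ^ m = delta X Y γ ^ m * g := fun m g =>
      Subgroup.mem_center_iff.1 (zpow_mem (delta_center h γ) m) g
    have h1 : Wk X Y γ 1 * Wk X Y γ 0 *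
        (eta X Y γ ^ k * delta X Y γ ^ (-(k / 2)) * Wk X Y γ 0)⁻¹ =
        eta X Y γ * (Wk X Y γ 0 * eta X Y γ ^ (-k)) * delta X Y γ ^ (k / 2) := by
      rw [mul_inv_rev, mul_inv_rev, ← zpow_neg, ← zpow_neg, neg_neg, eta, ← hd (k / 2)]
      simp [mul_assoc]
    rw [h1, w_eta_zpow h γ, neg_neg, zpow_add, zpow_one, (Commute.zpow_self (eta X Y γ) k).eq,
      show -((k + 1) / 2) = -k + k / 2 by omega, zpow_add]
    simp only [mul_assoc]
    rw [← hd (k / 2) (Wk X Y γ 0)]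
  induction k using Int.induction_on with
  | zero => simp
  | succ k ih =>
    rw [hstep, ← ih, eq_mul_inv_iff_mul_eq]
    exact Wk_succ_mul h γ _
  | pred k ih =>
    have h1 := hstep (-(k : ℤ) - 1)
    rw [sub_add_cancel, ← ih] at h1
    have h2 := Wk_succ_mul h γ (-(k : ℤ) - 1)
    rw [sub_add_cancel] at h2
    rw [eq_mul_inv_iff_mul_eq, ← h2] at h1
    exact (mul_left_cancel h1).symm

variable (hγ : ∀ x, x ∈ Subgroup.zpowers γ)

omit h in
theorem Wk_add_card (k : ℤ) : Wk X Y γ (k + Nat.card Kˣ) = Wk X Y γ k := by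
  rw [Wk, Wk, zpow_add, zpow_natCast, pow_card_eq_one', mul_one]

theorem Wk_sq_add_two (j : ℕ) (k : ℤ) :
    Wk X Y γ (k + 2 * j) * Wk X Y γ (k + 2 * j) = Wk X Y γ k * Wk X Y γ k := by
  induction j with
  | zero => simp
  | succ j ih =>
    rw [← ih]
    have h1 : Wk X Y γ (k + 2 * ((j + 1 : ℕ) : ℤ)) = Wk X Y γ (k + 2 * j + 1) *
        Wk X Y γ (k + 2 * j) * (Wk X Y γ (k + 2 * j + 1))⁻¹ := by
      rw [Wk_Wk h γ (k + 2 * j + 1) (k + 2 * j), mul_inv_cancel_right]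
      congr 1; push_cast; ring
    rw [h1]
    calc _ = Wk X Y γ (k + 2 * j + 1) * (Wk X Y γ (k + 2 * j) * Wk X Y γ (k + 2 * j)) *
          (Wk X Y γ (k + 2 * j + 1))⁻¹ := by simp [mul_assoc]
      _ = _ := by
        rw [Subgroup.mem_center_iff.1 (Wk_sq_center h γ (k + 2 * j)), mul_inv_cancel_right]

include hγ

theorem delta_eq_one : delta X Y γ = 1 := by
  rcases Nat.even_or_odd (Nat.card Kˣ) with heven | ⟨j, hj⟩
  · have h2 : (2 : K) ≠ 0 := by
      intro h2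
      have : CharP K 2 := CharTwo.of_one_ne_zero_of_two_eq_zero one_ne_zero h2
      have := Fintype.ofFinite K
      have hodd := FiniteField.even_card_iff_char_two.1 (ringChar.eq K 2)
      rw [Nat.card_units, Nat.card_eq_fintype_card, Nat.even_iff] at heven
      have := Fintype.one_lt_card (α := K)
      omega
    have hns : ∀ x : Kˣ, x ^ 2 ≠ γ := by
      intro x hx
      obtain ⟨i, rfl⟩ := hγ x
      have h1 : γ ^ (2 * i - 1) = 1 := by
        simp only at hx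
        rw [zpow_sub, zpow_one, show 2 * i = i * 2 by ring, zpow_mul, zpow_two, ← sq]
        exact mul_inv_eq_one.2 hx
      have h3 := orderOf_dvd_iff_zpow_eq_one.2 h1
      rw [orderOf_eq_card_of_forall_mem_zpowers hγ] at h3
      obtain ⟨d, hd⟩ := heven
      obtain ⟨e, he⟩ := h3
      rw [hd] at he
      push_cast at he
      have : (2 : ℤ) ∣ 1 := ⟨i - d * e, by linarith⟩
      norm_num at this
    obtain ⟨a, b, hab⟩ := SL2Tor.exists_affine_form h2 one_ne_zero (γ : K)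
    rw [one_mul] at hab
    have ha : a ≠ 0 := by
      rintro rfl
      have hb : b ≠ 0 := by rintro rfl; exact γ.ne_zero (by simpa using hab.symm)
      exact hns (Units.mk0 b hb) (Units.ext (by simpa using hab))
    have hb : b ≠ 0 := by
      rintro rfl
      exact hns (Units.mk0 a ha) (Units.ext (by simpa using hab))
    obtain ⟨i, hi⟩ := hγ (Units.mk0 a ha)
    obtain ⟨j, hj⟩ := hγ (Units.mk0 b hb)
    have ea : ((γ ^ (2 * i) : Kˣ) : K) = a ^ 2 := by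
      rw [mul_comm, zpow_mul, zpow_two, ← sq]
      simp only at hi
      rw [hi]; simp
    have eb : ((γ ^ (2 * j) : Kˣ) : K) = b ^ 2 := by
      rw [mul_comm, zpow_mul, zpow_two, ← sq]
      simp only at hj
      rw [hj]; simp
    have key : Wk X Y γ (2 * i) * (Wk X Y γ 1)⁻¹ * Wk X Y γ (2 * j) =
        Wk X Y γ (2 * i + 2 * j - 1) := by
      unfold Wk
      rw [W_inv h, zpow_one]
      have hsum : ((γ ^ (2 * i) : Kˣ) : K) + ((γ ^ (2 * j) : Kˣ) : K) = (γ : K) := by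
        rw [ea, eb, hab]
      rw [← hsum, W_W_W h (Units.ne_zero _) (Units.ne_zero _) (by rw [hsum]; exact γ.ne_zero), hsum,
        zpow_sub, zpow_add, zpow_one, Units.val_mul, Units.val_mul, Units.val_inv_eq_inv_val,
        div_eq_mul_inv]
    rw [Wk_eq h γ (2 * i), Wk_eq h γ (2 * j), Wk_eq h γ (2 * i + 2 * j - 1),
      show Wk X Y γ 1 = eta X Y γ * Wk X Y γ 0 by simp [eta],
      show 2 * i / 2 = i by omega, show 2 * j / 2 = j by omega,
      show (2 * i + 2 * j - 1) / 2 = i + j - 1 by omega] at key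
    have hd : ∀ (m : ℤ) (g : P), delta X Y γ ^ m * g = g * delta X Y γ ^ m := fun m g =>
      (Subgroup.mem_center_iff.1 (zpow_mem (delta_center h γ) m) g).symm
    simp only [mul_inv_rev, mul_assoc, mul_inv_cancel_left] at key
    rw [← mul_assoc (delta X Y γ ^ (-i)), hd (-i) (eta X Y γ)⁻¹] at key
    simp only [mul_assoc] at key
    rw [← mul_assoc (delta X Y γ ^ (-i)) (eta X Y γ ^ (2 * j)), hd (-i) (eta X Y γ ^ (2 * j))] at key
    simp only [← mul_assoc] at key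
    rw [← zpow_neg_one, ← zpow_add, ← zpow_add] at key
    simp only [mul_assoc] at key
    rw [show 2 * i + -1 + 2 * j = 2 * i + 2 * j - 1 by ring] at key
    have h4 := mul_left_cancel key
    rw [← mul_assoc, ← zpow_add] at h4
    have h5 := mul_right_cancel h4
    rw [show -(i + j - 1) = (-i + -j) + 1 by ring, zpow_add _ _ (1 : ℤ), zpow_one] at h5
    exact left_eq_mul.1 h5
  · rw [delta, mul_inv_eq_one]
    have h0 := Wk_add_card (X := X) (Y := Y) γ 0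
    rw [hj, zero_add] at h0
    have h1 := Wk_sq_add_two h γ j 1
    rw [show (1 : ℤ) + 2 * j = ((2 * j + 1 : ℕ) : ℤ) by push_cast; ring, h0] at h1
    exact h1.symm

theorem Wk_eq_eta (k : ℤ) : Wk X Y γ k = eta X Y γ ^ k * Wk X Y γ 0 := by
  rw [Wk_eq h γ k, delta_eq_one h γ hγ]
  simp

theorem eta_pow_card : eta X Y γ ^ Nat.card Kˣ = 1 := by
  have h1 := Wk_eq_eta h γ hγ (0 + Nat.card Kˣ)
  rw [Wk_add_card, zero_add, zpow_natCast] at h1
  exact right_eq_mul.1 h1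

theorem w_mem {g : P} (hg : g ∈ Subgroup.zpowers (eta X Y γ)) :
    Wk X Y γ 0 * g = g⁻¹ * Wk X Y γ 0 := by
  obtain ⟨k, rfl⟩ := hg
  rw [w_eta_zpow h γ k, delta_eq_one h γ hγ]
  simp

theorem W_form {x : K} (hx : x ≠ 0) :
    ∃ g ∈ Subgroup.zpowers (eta X Y γ), W X Y x = g * Wk X Y γ 0 := by
  obtain ⟨k, hk⟩ := hγ (Units.mk0 x hx)
  refine ⟨eta X Y γ ^ k, ⟨k, rfl⟩, ?_⟩
  rw [← Wk_eq_eta h γ hγ, Wk]
  simp only at hk
  rw [hk]
  rfl

theorem w_w_mem : Wk X Y γ 0 * Wk X Y γ 0 ∈ Subgroup.zpowers (eta X Y γ) := by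
  obtain ⟨g, hg, hW⟩ := W_form h γ hγ (x := (-1 : K)) (by simp)
  have h1 : (Wk X Y γ 0)⁻¹ = g * Wk X Y γ 0 := by
    rw [← hW, Wk, W_inv h]
    simp
  have : Wk X Y γ 0 * Wk X Y γ 0 = g⁻¹ := by
    refine eq_inv_of_mul_eq_one_right ?_
    rw [← mul_assoc, ← h1, inv_mul_cancel]
  rw [this]
  exact inv_mem hg

theorem mem_X {g : P} (hg : g ∈ Subgroup.zpowers (eta X Y γ)) (a : K) :
    ∃ b, g * X a = X b * g := by
  have hfin : IsOfFinOrder (eta X Y γ) :=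
    isOfFinOrder_iff_pow_eq_one.2 ⟨_, Nat.card_pos, eta_pow_card h γ hγ⟩
  obtain ⟨k, rfl⟩ := hfin.mem_powers_iff_mem_zpowers.2 hg
  have h1 : ∀ a, eta X Y γ * X a = X ((γ : K) ^ 2 * a) * eta X Y γ := by
    intro a
    have e1 : (Wk X Y γ 0)⁻¹ * X a = Y (-a) * (Wk X Y γ 0)⁻¹ := by
      rw [Wk, W_inv h, W_X h (by simp)]
      simp
    have e2 : Wk X Y γ 1 * Y (-a) = X ((γ : K) ^ 2 * a) * Wk X Y γ 1 := by
      rw [Wk, W_Y h (Units.ne_zero _)]
      simp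
    rw [eta, mul_assoc, e1, ← mul_assoc, e2, mul_assoc]
  show ∃ b, eta X Y γ ^ k * X a = X b * eta X Y γ ^ k
  induction k generalizing a with
  | zero => exact ⟨a, by simp⟩
  | succ k ih =>
    obtain ⟨b, hb⟩ := ih (a := (γ : K) ^ 2 * a) ⟨(k : ℤ), zpow_natCast _ k⟩
    exact ⟨b, by rw [pow_succ, mul_assoc, h1, ← mul_assoc, hb, mul_assoc]⟩

theorem X_mem {g : P} (hg : g ∈ Subgroup.zpowers (eta X Y γ)) (a : K) :
    ∃ b, X a * g = g * X b := by
  obtain ⟨b, hb⟩ := mem_X h γ hγ (inv_mem hg) a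
  refine ⟨b, ?_⟩
  rw [inv_mul_eq_iff_eq_mul] at hb
  rw [hb]
  simp [mul_assoc]

theorem normal_X_mul (c : K) {p : P} (hp : Normal X Y γ p) : Normal X Y γ (X c * p) := by
  rcases hp with ⟨a, g, hg, rfl⟩ | ⟨a, g, hg, b, rfl⟩
  · exact Or.inl ⟨c + a, g, hg, by rw [← mul_assoc, h.xadd]⟩
  · exact Or.inr ⟨c + a, g, hg, b, by rw [← mul_assoc, ← mul_assoc, ← mul_assoc, h.xadd]⟩

theorem normal_mem_mul {k : P} (hk : k ∈ Subgroup.zpowers (eta X Y γ)) {p : P}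
    (hp : Normal X Y γ p) : Normal X Y γ (k * p) := by
  rcases hp with ⟨a, g, hg, rfl⟩ | ⟨a, g, hg, b, rfl⟩ <;> obtain ⟨a', ha⟩ := mem_X h γ hγ hk a
  · exact Or.inl ⟨a', k * g, mul_mem hk hg, by rw [← mul_assoc, ha, mul_assoc]⟩
  · refine Or.inr ⟨a', k * g, mul_mem hk hg, b, ?_⟩
    rw [← mul_assoc, ← mul_assoc, ← mul_assoc, ha]
    simp only [mul_assoc]

theorem normal_w_mul {p : P} (hp : Normal X Y γ p) : Normal X Y γ (Wk X Y γ 0 * p) := by
  rcases hp with ⟨a, g, hg, rfl⟩ | ⟨a, g, hg, b, rfl⟩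
  · obtain ⟨b, hb⟩ := X_mem h γ hγ hg a
    refine Or.inr ⟨0, g⁻¹, inv_mem hg, b, ?_⟩
    rw [hb, ← mul_assoc, w_mem h γ hγ hg, X_zero h, one_mul]
  · set k := g⁻¹ * (Wk X Y γ 0 * Wk X Y γ 0) with hk
    have hkm : k ∈ Subgroup.zpowers (eta X Y γ) := mul_mem (inv_mem hg) (w_w_mem h γ hγ)
    have hwgw : Wk X Y γ 0 * g * Wk X Y γ 0 = k := by
      rw [w_mem h γ hγ hg, hk, mul_assoc]
    by_cases ha : a = 0
    · subst ha
      obtain ⟨b', hb⟩ := mem_X h γ hγ hkm b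
      refine Or.inl ⟨b', k, hkm, ?_⟩
      rw [X_zero h, one_mul, ← mul_assoc, ← mul_assoc, hwgw, hb]
    · have e1 : Wk X Y γ 0 * X a = Y (-a) * Wk X Y γ 0 := by
        rw [Wk, W_X h (Units.ne_zero _)]
        simp
      obtain ⟨m, hm, hW⟩ := W_form h γ hγ (x := -(-a)⁻¹) (by simp [ha])
      obtain ⟨c, hc⟩ := X_mem h γ hγ hkm (-a)⁻¹
      refine Or.inr ⟨(-a)⁻¹, m * k⁻¹, mul_mem hm (inv_mem hkm), c + b, ?_⟩
      calc Wk X Y γ 0 * (X a * g * Wk X Y γ 0 * X b)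
          = Y (-a) * (Wk X Y γ 0 * g * Wk X Y γ 0) * X b := by
            simp only [← mul_assoc]; rw [e1]
        _ = X (-a)⁻¹ * m * Wk X Y γ 0 * (X (-a)⁻¹ * k) * X b := by
            rw [hwgw, Y_eq h (neg_ne_zero.2 ha), hW]; simp only [mul_assoc]
        _ = X (-a)⁻¹ * m * (Wk X Y γ 0 * k) * (X c * X b) := by
            rw [hc]; simp only [mul_assoc]
        _ = _ := by rw [w_mem h γ hγ hkm, h.xadd]; simp only [mul_assoc]

theorem normal_all (p : P) : Normal X Y γ p := by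
  have hY : ∀ v q, Normal X Y γ q → Normal X Y γ (Y v * q) := by
    intro v q hq
    by_cases hv : v = 0
    · subst hv; rwa [Y_zero h, one_mul]
    · obtain ⟨m, hm, hW⟩ := W_form h γ hγ (x := -v⁻¹) (by simp [hv])
      rw [Y_eq h hv, hW]
      simp only [mul_assoc]
      exact normal_X_mul h γ hγ _ (normal_mem_mul h γ hγ hm
        (normal_w_mul h γ hγ (normal_X_mul h γ hγ _ hq)))
  have hp : p ∈ Subgroup.closure (Set.range X ∪ Set.range Y) := by rw [h.gen]; trivial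
  induction hp using Subgroup.closure_induction_left with
  | one => exact Or.inl ⟨0, 1, one_mem _, by simp [X_zero h]⟩
  | mul_left a ha b _ ih =>
    rcases ha with ⟨c, rfl⟩ | ⟨c, rfl⟩
    · exact normal_X_mul h γ hγ c ih
    · exact hY c b ih
  | inv_mul_cancel a ha b _ ih =>
    rcases ha with ⟨c, rfl⟩ | ⟨c, rfl⟩
    · rw [X_inv h]; exact normal_X_mul h γ hγ _ ih
    · rw [Y_inv h]; exact hY _ b ih

end Cyclic

variable [Finite K]

include h in
/-- the group is finite, of order at most `q(q-1)(q+1)` -/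
theorem card_le :
    Finite P ∧ Nat.card P ≤ Nat.card K * ((Nat.card K - 1) * (Nat.card K + 1)) := by
  obtain ⟨γ, hγ⟩ := IsCyclic.exists_generator (α := Kˣ)
  have hord : orderOf (eta X Y γ) ∣ Nat.card Kˣ :=
    orderOf_dvd_of_pow_eq_one (eta_pow_card h γ hγ)
  have hT : Finite (Subgroup.zpowers (eta X Y γ)) :=
    (isOfFinOrder_iff_pow_eq_one.2 ⟨_, Nat.card_pos, eta_pow_card h γ hγ⟩).finite_zpowers.to_subtype
  let f : K × Subgroup.zpowers (eta X Y γ) ⊕ K × Subgroup.zpowers (eta X Y γ) × K → P :=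
    Sum.elim (fun u => X u.1 * (u.2 : P))
      (fun u => X u.1 * (u.2.1 : P) * Wk X Y γ 0 * X u.2.2)
  have hf : Function.Surjective f := by
    intro p
    rcases normal_all h γ hγ p with ⟨a, g, hg, rfl⟩ | ⟨a, g, hg, b, rfl⟩
    · exact ⟨Sum.inl (a, ⟨g, hg⟩), rfl⟩
    · exact ⟨Sum.inr (a, ⟨g, hg⟩, b), rfl⟩
  refine ⟨Finite.of_surjective f hf, (Nat.card_le_card_of_surjective f hf).trans ?_⟩
  rw [Nat.card_sum, Nat.card_prod, Nat.card_prod, Nat.card_prod, Nat.card_zpowers,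
    show Nat.card K - 1 = Nat.card Kˣ from (Nat.card_units K).symm]
  have hle := Nat.le_of_dvd Nat.card_pos hord
  calc Nat.card K * orderOf (eta X Y γ) + Nat.card K * (orderOf (eta X Y γ) * Nat.card K)
      = Nat.card K * (orderOf (eta X Y γ) * (Nat.card K + 1)) := by ring
    _ ≤ _ := Nat.mul_le_mul_left _ (Nat.mul_le_mul_right _ hle)

end Cfsg.Agent.SL2Pres
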